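import Cfsg.Agent.CoU62.Data
import Cfsg.Agent.McLSimple.RankFour
import Cfsg.Agent.Leech.StabOrbits
import Cfsg.Agent.Leech.Xi
import Cfsg.Agent.Leech.Order
import Cfsg.Agent.Leech.PairCount

/-!
# Three lattice automorphisms fixing a triangle of shortest vectors
-/

set_option autoImplicit false
set_option maxRecDepth 100000

namespace Cfsg.Agent.CoU62

open Cfsg CfsgLib CfsgLib.Golay MulAction

attribute [local irreducible] CfsgLib.Leech.shortVecs CfsgLib.Leech.halfTable CfsgLib.Leech.quarterTable

/-- A field of a packed number. -/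
def get (N w i : ℕ) : ℕ := Nat.land (Nat.shiftRight N (w * i)) (2 ^ w - 1)

/-- A permutation list. -/
def opP (l : Fin 3) : List ℕ := opPerms.getD l.val []

/-- A sign word. -/
def opM (l : Fin 3) : ℕ := opMasks.getD l.val 0

/-- Whether the sextet map comes first. -/
def opX (l : Fin 3) : Bool := opXi.getD l.val false

theorem op_ok : ∀ l : Fin 3, (opP l).length = 24 ∧ PreservesCode (opP l) ∧ word (opM l % 4096) = opM l ∧
    (∀ i < 24, idx (pt ((opP l).getD i 0)) = (opP l).getD i 0) ∧
    (∀ p : GolayPt, pt ((invL (opP l)).getD (idx (pt ((opP l).getD (idx p) 0))) 0) = p ∧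
      pt ((opP l).getD (idx (pt ((invL (opP l)).getD (idx p) 0))) 0) = p) := by
  unfold PreservesCode
  decide +kernel

/-- The permutation. -/
def opS (l : Fin 3) : Equiv.Perm GolayPt := McLSimple.listPerm (opP l) (op_ok l).2.2.2.2

theorem opS_mem (l : Fin 3) : opS l ∈ M24 := by
  have h : toList (opS l) = opP l := by
    refine List.ext_getElem (by simp [toList, (op_ok l).1]) fun i h1 h2 => ?_
    have hi : i < 24 := by simpa [toList] using h1
    simp only [toList, List.getElem_map, List.getElem_range]
    show idx (pt ((opP l).getD (idx (pt i)) 0)) = _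
    rw [idx_pt i hi, (op_ok l).2.2.2.1 i hi]
    exact List.getD_eq_getElem _ _ h2
  exact mem_M24_of_preserves _ (h ▸ (op_ok l).2.1)

/-- The sign word in the code. -/
def opW (l : Fin 3) : golayCode := ⟨vec (opM l), by rw [← (op_ok l).2.2.1]; exact vec_word_mem _⟩

/-- The automorphism. -/
def gen (l : Fin 3) : Co0 :=
  Leech.signAut (opW l) * Leech.permHom ⟨opS l, opS_mem l⟩ * if opX l then Leech.xiAut else 1

/-- The sextet map on coordinate lists. -/
def xiL (x : List ℤ) : List ℤ :=
  (List.range 24).map fun i =>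
    let a := Leech.tetradList.getD i 0
    (if a = 0 then -1 else 1) * (x.getD i 0 - (x.getD (Leech.sextetList.getD (4 * a) 0) 0 +
      x.getD (Leech.sextetList.getD (4 * a + 1) 0) 0 + x.getD (Leech.sextetList.getD (4 * a + 2) 0) 0 +
      x.getD (Leech.sextetList.getD (4 * a + 3) 0) 0) / 2)

/-- A permutation followed by signs on coordinate lists. -/
def monL (A : List ℕ) (m : ℕ) (x : List ℤ) : List ℤ :=
  (List.range 24).map fun i =>
    let v := x.getD ((invL A).getD i 0) 0
    if m.testBit i then -v else v

/-- The action of a generator on coordinate lists. -/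
def stepL (l : Fin 3) (x : List ℤ) : List ℤ := monL (opP l) (opM l) (if opX l then xiL x else x)

theorem inv_lt : ∀ l : Fin 3, ∀ i < 24, (invL (opP l)).getD i 0 < 24 := by decide +kernel

theorem tet_lt : ∀ i < 24, Leech.tetradList.getD i 0 < 6 ∧ ∀ b < 4,
    Leech.sextetList.getD (4 * Leech.tetradList.getD i 0 + b) 0 < 24 := by decide +kernel

theorem toL_xi (f : GolayPt → ℤ) : McLSimple.toL (Leech.xi f) = xiL (McLSimple.toL f) := by
  refine List.ext_getElem (by simp [McLSimple.toL, xiL]) fun i h1 h2 => ?_
  have hi : i < 24 := by simpa [McLSimple.toL] using h1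
  obtain ⟨ha, hb⟩ := tet_lt i hi
  have hto : (Leech.tetOf (pt i)).val = Leech.tetradList.getD i 0 := by
    show (Fin.ofNat 6 (Leech.tetradList.getD (idx (pt i)) 0)).val = _
    rw [idx_pt i hi, Fin.val_ofNat, Nat.mod_eq_of_lt ha]
  have hsum : Leech.tetSum f (Leech.tetOf (pt i)) =
      f (pt (Leech.sextetList.getD (4 * Leech.tetradList.getD i 0) 0)) +
      f (pt (Leech.sextetList.getD (4 * Leech.tetradList.getD i 0 + 1) 0)) +
      f (pt (Leech.sextetList.getD (4 * Leech.tetradList.getD i 0 + 2) 0)) +
      f (pt (Leech.sextetList.getD (4 * Leech.tetradList.getD i 0 + 3) 0)) := by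
    simp only [Leech.tetSum, Fin.sum_univ_four, Leech.tetPt, hto]
    rfl
  have hsgn : Leech.tetSign (Leech.tetOf (pt i)) = if Leech.tetradList.getD i 0 = 0 then -1 else 1 := by
    simp only [Leech.tetSign, Fin.ext_iff, hto, Fin.val_zero]
  have hL : (McLSimple.toL (Leech.xi f))[i]'h1 = Leech.xi f (pt i) := by simp [McLSimple.toL]
  rw [hL]
  have hb0 : Leech.sextetList.getD (4 * Leech.tetradList.getD i 0) 0 < 24 := by simpa using hb 0 (by norm_num)
  simp only [xiL, List.getElem_map, List.getElem_range, McLSimple.getD_toL _ hi,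
    McLSimple.getD_toL _ hb0, McLSimple.getD_toL _ (hb 1 (by norm_num)),
    McLSimple.getD_toL _ (hb 2 (by norm_num)), McLSimple.getD_toL _ (hb 3 (by norm_num)), Nat.add_zero,
    Leech.xi, hsum, hsgn]

theorem toL_gen (l : Fin 3) (v : leechLattice) :
    McLSimple.toL ((gen l • v : leechLattice) : GolayPt → ℤ) = stepL l (McLSimple.toL (v : GolayPt → ℤ)) := by
  have e : ∀ y : leechLattice, McLSimple.toL ((Leech.signAut (opW l) • (Leech.permHom ⟨opS l, opS_mem l⟩ • y) :
      leechLattice) : GolayPt → ℤ) = monL (opP l) (opM l) (McLSimple.toL (y : GolayPt → ℤ)) := by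
    intro y
    refine List.ext_getElem (by simp [McLSimple.toL, monL]) fun i h1 h2 => ?_
    have hi : i < 24 := by simpa [McLSimple.toL] using h1
    simp only [monL, List.getElem_map, List.getElem_range, McLSimple.getD_toL _ (inv_lt l i hi)]
    simp only [McLSimple.toL, List.getElem_map, List.getElem_range, Leech.signAut_apply, Leech.flipSign]
    have hinv : (opS l)⁻¹ (pt i) = pt ((invL (opP l)).getD i 0) := by
      show pt ((invL (opP l)).getD (idx (pt i)) 0) = _
      rw [idx_pt i hi]
    rw [Leech.permHom_apply, hinv]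
    show (if vec (opM l) (pt i) = 1 then _ else _) = _
    simp only [vec, idx_pt i hi]
    cases (opM l).testBit i <;> simp
  rw [gen, mul_smul, mul_smul, e, stepL]
  congr 1
  cases opX l
  · simp
  · simp only [if_true]
    rw [← toL_xi, Leech.xiAut_apply]

/-- A vector of the suborbit, as a list. -/
def subL (i : Fin 891) : List ℤ :=
  (List.range 24).map fun p => (get vecCodes 4 (24 * i.val + p) : ℤ) - 8

/-- The permutation of the suborbit. -/
def vperm (l : Fin 3) (i : Fin 891) : Fin 891 := Fin.ofNat 891 (get (vecPerms.getD l.val 0) 10 i.val)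

/-- The second vector of the triangle, as a list. -/
def secondL : List ℤ := [-4, 4] ++ List.replicate 22 0

/-- A vector from a list. -/
def ofL (xs : List ℤ) : GolayPt → ℤ := fun p => xs.getD (idx p) 0

theorem second_test : Leech.LeechTest (ofL secondL) := by decide +kernel

theorem sub_test : ∀ i : Fin 891, Leech.LeechTest (ofL (subL i)) := by decide +kernel

/-- The second vector of the triangle. -/
def second : leechLattice := ⟨_, Leech.mem_of_test second_test⟩

/-- A vector of the suborbit. -/
def sub (i : Fin 891) : leechLattice := ⟨_, Leech.mem_of_test (sub_test i)⟩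

theorem toL_ofL {xs : List ℤ} (h : xs.length = 24) : McLSimple.toL (ofL xs) = xs := by
  refine List.ext_getElem (by simp [McLSimple.toL, h]) fun i h1 h2 => ?_
  simp only [McLSimple.toL, List.getElem_map, List.getElem_range, ofL, idx_pt i (h ▸ h2)]
  exact List.getD_eq_getElem _ _ h2

theorem len_subL (i : Fin 891) : (subL i).length = 24 := by simp [subL]

theorem fix_ok : ∀ l : Fin 3, stepL l (McLSimple.toL Spor.vecU) = McLSimple.toL Spor.vecU ∧
    stepL l secondL = secondL := by decide +kernel

theorem move_ok : ∀ l : Fin 3, ∀ i : Fin 891, stepL l (subL i) = subL (vperm l i) := by decide +kernel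

theorem toL_inj {v w : leechLattice} (h : McLSimple.toL (v : GolayPt → ℤ) = McLSimple.toL (w : GolayPt → ℤ)) :
    v = w := by
  refine Subtype.ext (funext fun p => ?_)
  have := congrArg (fun l : List ℤ => l.getD (idx p) 0) h
  simpa only [McLSimple.getD_toL _ (idx_lt p), pt_idx] using this

theorem gen_second (l : Fin 3) : gen l • second = second := by
  refine toL_inj ?_
  rw [toL_gen]
  show stepL l (McLSimple.toL (ofL secondL)) = McLSimple.toL (ofL secondL)
  rw [toL_ofL (by rfl), (fix_ok l).2]

theorem gen_U (l : Fin 3) : gen l • Spor.leechU = Spor.leechU := by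
  refine toL_inj ?_
  rw [toL_gen]
  exact (fix_ok l).1

theorem gen_sub (l : Fin 3) (i : Fin 891) : gen l • sub i = sub (vperm l i) := by
  refine toL_inj ?_
  rw [toL_gen]
  show stepL l (McLSimple.toL (ofL (subL i))) = McLSimple.toL (ofL (subL (vperm l i)))
  rw [toL_ofL (len_subL _), toL_ofL (len_subL _), move_ok]

/-- The pair stabiliser. -/
def S0 : Subgroup Co0 := stabilizer Co0 Spor.leechU ⊓ stabilizer Co0 second

theorem gen_mem (l : Fin 3) : gen l ∈ S0 := ⟨gen_U l, gen_second l⟩

theorem second_dot : sqNorm (second : GolayPt → ℤ) = 32 ∧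
    dotInt (Spor.leechU : GolayPt → ℤ) (second : GolayPt → ℤ) = -16 := by
  show sqNorm (ofL secondL) = 32 ∧ dotInt Spor.vecU (ofL secondL) = -16
  decide +kernel

theorem U_norm : sqNorm (Spor.leechU : GolayPt → ℤ) = 32 := by
  show sqNorm Spor.vecU = 32
  decide +kernel

theorem orbit_second : orbit (stabilizer Co0 Spor.leechU) second =
    {b : leechLattice | sqNorm (b : GolayPt → ℤ) = 32 ∧ dotInt (Spor.leechU : GolayPt → ℤ) (b : GolayPt → ℤ) = -16} := by
  ext b
  constructor
  · rintro ⟨⟨g, hg⟩, rfl⟩
    refine ⟨?_, ?_⟩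
    · show sqNorm ((g • second : leechLattice) : GolayPt → ℤ) = 32
      rw [Leech.sqNorm_smul]; exact second_dot.1
    · show dotInt (Spor.leechU : GolayPt → ℤ) ((g • second : leechLattice) : GolayPt → ℤ) = -16
      have h := Leech.dot_smul' g Spor.leechU second
      rw [mem_stabilizer_iff.mp hg] at h
      rw [h]; exact second_dot.2
  · rintro ⟨hn, hd⟩
    obtain ⟨h, hU, hb⟩ := Leech.orbit_sixteen second_dot.1 hn second_dot.2 hd
    exact ⟨⟨h, hU⟩, hb⟩

theorem card_S0 : Nat.card S0 = 9196830720 := by
  have h := (stabilizer (stabilizer Co0 Spor.leechU) second).card_mul_index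
  rw [index_stabilizer, orbit_second, Leech.ncard_coe fun w => sqNorm w = 32 ∧
    dotInt (Spor.leechU : GolayPt → ℤ) w = -16, Leech.ncard_dot_sixteen Spor.leechU.2 U_norm,
    Leech.card_stabilizer_32 U_norm] at h
  have e : Nat.card S0 = Nat.card (stabilizer (stabilizer Co0 Spor.leechU) second) :=
    Nat.card_congr
      { toFun := fun k => ⟨⟨k, k.2.1⟩, k.2.2⟩
        invFun := fun k => ⟨k.1, k.1.2, k.2⟩
        left_inv := fun _ => rfl
        right_inv := fun _ => rfl }
  omega

end Cfsg.Agent.CoU62
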