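import Cfsg.Agent.CoU62.Data
import Cfsg.Agent.Coset.G24.Field
import Cfsg.Agent.Unitary.Generation

/-!
# Three unitary matrices moving the 693 isotropic points
-/

set_option autoImplicit false
set_option maxRecDepth 100000

namespace Cfsg.Agent.CoU62

open Matrix CfsgLib.Unitary
open CfsgLib.Coset.G24 (F4)

/-- A packed field. -/
def getU (N w i : ℕ) : ℕ := Nat.land (Nat.shiftRight N (w * i)) (2 ^ w - 1)

/-- Decoding of an element. -/
def dec : ℕ → F4
  | 1 => .o
  | 2 => .w
  | 3 => .v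
  | _ => .z

/-- Multiplication of codes. -/
def fmul (a b : ℕ) : ℕ := getU mulTable 2 (4 * a + b)

theorem field_ok : ∀ a b : Fin 4, a.val ^^^ b.val < 4 ∧ dec (a.val ^^^ b.val) = dec a.val + dec b.val ∧
    fmul a.val b.val < 4 ∧ dec (fmul a.val b.val) = dec a.val * dec b.val := by decide +kernel

theorem dec_inj' : ∀ a b : Fin 4, dec a.val = dec b.val → a = b := by decide +kernel

theorem dec_inj {a b : ℕ} (ha : a < 4) (hb : b < 4) (h : dec a = dec b) : a = b :=
  congrArg Fin.val (dec_inj' ⟨a, ha⟩ ⟨b, hb⟩ h)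

theorem dec_onto : ∀ x : F4, ∃ c : Fin 4, dec c.val = x := by decide +kernel

theorem dec_add {a b : ℕ} (ha : a < 4) (hb : b < 4) : dec (a ^^^ b) = dec a + dec b :=
  (field_ok ⟨a, ha⟩ ⟨b, hb⟩).2.1

theorem dec_mul {a b : ℕ} (ha : a < 4) (hb : b < 4) : dec (fmul a b) = dec a * dec b :=
  (field_ok ⟨a, ha⟩ ⟨b, hb⟩).2.2.2

theorem xor_lt {a b : ℕ} (ha : a < 4) (hb : b < 4) : a ^^^ b < 4 := (field_ok ⟨a, ha⟩ ⟨b, hb⟩).1

theorem fmul_lt {a b : ℕ} (ha : a < 4) (hb : b < 4) : fmul a b < 4 := (field_ok ⟨a, ha⟩ ⟨b, hb⟩).2.2.1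

theorem getU_lt (N w i : ℕ) : getU N w i < 2 ^ w :=
  lt_of_le_of_lt Nat.and_le_right (Nat.sub_lt (by positivity) Nat.one_pos)

/-- The coded product of two rows of six. -/
def dot6 (f g : ℕ → ℕ) : ℕ :=
  ((((fmul (f 0) (g 0) ^^^ fmul (f 1) (g 1)) ^^^ fmul (f 2) (g 2)) ^^^ fmul (f 3) (g 3)) ^^^
    fmul (f 4) (g 4)) ^^^ fmul (f 5) (g 5)

theorem dec_dot6 {f g : ℕ → ℕ} (hf : ∀ k, f k < 4) (hg : ∀ k, g k < 4) :
    dot6 f g < 4 ∧ dec (dot6 f g) = ∑ k : Fin 6, dec (f k.val) * dec (g k.val) := by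
  have hm := fun k => fmul_lt (hf k) (hg k)
  have h1 := xor_lt (hm 0) (hm 1)
  have h2 := xor_lt h1 (hm 2)
  have h3 := xor_lt h2 (hm 3)
  have h4 := xor_lt h3 (hm 4)
  refine ⟨xor_lt h4 (hm 5), ?_⟩
  rw [dot6, dec_add h4 (hm 5), dec_add h3 (hm 4), dec_add h2 (hm 3), dec_add h1 (hm 2), dec_add (hm 0) (hm 1)]
  simp only [dec_mul (hf _) (hg _), Fin.sum_univ_six]
  rfl

/-- A code of a matrix. -/
def uC (l : Fin 3) (i k : ℕ) : ℕ := getU (uniMats.getD l.val 0) 2 (6 * i + k)

/-- A code of a power of a matrix, the exponent shifted by one. -/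
def powC (l : Fin 3) (t i k : ℕ) : ℕ :=
  match t with
  | 0 => uC l i k
  | t + 1 => getU ((uniPows.getD l.val []).getD t 0) 2 (6 * i + k)

/-- The orders of the generators. -/
def ordC (l : Fin 3) : ℕ := (uniPows.getD l.val []).length + 1

/-- A generating matrix. -/
def uMat (l : Fin 3) : Matrix (Fin 6) (Fin 6) F4 := Matrix.of fun i k => dec (uC l i.val k.val)

/-- A power as a matrix. -/
def pMat (l : Fin 3) (t : ℕ) : Matrix (Fin 6) (Fin 6) F4 := Matrix.of fun i k => dec (powC l t i.val k.val)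

theorem uC_lt (l : Fin 3) (i k : ℕ) : uC l i k < 4 := getU_lt _ 2 _

theorem powC_lt (l : Fin 3) : ∀ t i k : ℕ, powC l t i k < 4
  | 0, i, k => uC_lt l i k
  | t + 1, _, _ => getU_lt _ 2 _

theorem powC_step : ∀ l : Fin 3, ∀ t < (uniPows.getD l.val []).length, ∀ i k : Fin 6,
    powC l (t + 1) i.val k.val = dot6 (fun m => uC l i.val m) (fun m => powC l t m k.val) := by decide +kernel

theorem powC_top : ∀ l : Fin 3, powC l (ordC l - 1) 0 0 ≠ 0 ∧ ∀ i k : Fin 6,
    powC l (ordC l - 1) i.val k.val = if i = k then powC l (ordC l - 1) 0 0 else 0 := by decide +kernel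

theorem order_ok : ∀ l : Fin 3, ∀ x : F4, x ^ ordC l = 1 → x = 1 := by decide +kernel

theorem six_ok : ∀ x : F4, x ≠ 0 → x ^ 6 = 1 := by decide +kernel

theorem pow_eq (l : Fin 3) : ∀ t, t < ordC l → uMat l ^ (t + 1) = pMat l t
  | 0, _ => by rw [pow_one]; rfl
  | t + 1, ht => by
    rw [pow_succ', pow_eq l t (by omega)]
    refine Matrix.ext fun i k => ?_
    show (uMat l * pMat l t) i k = dec (powC l (t + 1) i.val k.val)
    rw [powC_step l t (by simpa [ordC] using ht) i k, (dec_dot6 (uC_lt l _) (fun m => powC_lt l t m _)).2,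
      Matrix.mul_apply]
    rfl

theorem uMat_det (l : Fin 3) : (uMat l).det = 1 := by
  refine order_ok l _ ?_
  obtain ⟨h0, hd⟩ := powC_top l
  have hp : uMat l ^ ordC l = dec (powC l (ordC l - 1) 0 0) • (1 : Matrix (Fin 6) (Fin 6) F4) := by
    have h := pow_eq l (ordC l - 1) (by simp [ordC])
    rw [show ordC l - 1 + 1 = ordC l by simp [ordC]] at h
    rw [h]
    refine Matrix.ext fun i k => ?_
    show dec (powC l (ordC l - 1) i.val k.val) = _
    rw [hd i k, Matrix.smul_apply, Matrix.one_apply]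
    split <;> simp
    rfl
  rw [← Matrix.det_pow, hp, Matrix.det_smul, Matrix.det_one, mul_one, Fintype.card_fin]
  exact six_ok _ fun h => h0 (dec_inj (powC_lt _ _ _ _) (by norm_num) h)

theorem unitaryC : ∀ l : Fin 3, ∀ i j : Fin 6,
    dot6 (fun k => uC l k i.val) (fun k => fmul (uC l k j.val) (uC l k j.val)) = if i = j then 1 else 0 := by
  decide +kernel

theorem uMat_unitary (l : Fin 3) (i j : Fin 6) :
    ∑ k : Fin 6, uMat l k i * uMat l k j ^ 2 = if i = j then 1 else 0 := by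
  have h := congrArg dec (unitaryC l i j)
  rw [(dec_dot6 (fun k => uC_lt l k _) (fun k => fmul_lt (uC_lt l k _) (uC_lt l k _))).2] at h
  simp only [dec_mul (uC_lt l _ _) (uC_lt l _ _), ← pow_two] at h
  refine Eq.trans h ?_
  split <;> rfl

theorem add_sq' : ∀ x y : F4, (x + y) ^ 2 = x ^ 2 + y ^ 2 := by decide +kernel

theorem uMat_mem (l : Fin 3) :
    (⟨uMat l, uMat_det l⟩ : Matrix.SpecialLinearGroup (Fin 6) F4) ∈ Cfsg.SU 6 F4 2 := by
  intro u v
  show Cfsg.hermForm 6 F4 2 (uMat l *ᵥ u) (uMat l *ᵥ v) = Cfsg.hermForm 6 F4 2 u v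
  let φ : F4 →+ F4 := AddMonoidHom.mk' (fun x => x ^ 2) add_sq'
  have hsum : ∀ f : Fin 6 → F4, (∑ j, f j) ^ 2 = ∑ j, f j ^ 2 := fun f => map_sum φ f Finset.univ
  calc Cfsg.hermForm 6 F4 2 (uMat l *ᵥ u) (uMat l *ᵥ v)
      = ∑ k, ∑ i, ∑ j, u i * v j ^ 2 * (uMat l k i * uMat l k j ^ 2) := by
        simp only [Cfsg.hermForm, Matrix.mulVec, dotProduct, hsum, Finset.sum_mul, Finset.mul_sum]
        refine Finset.sum_congr rfl fun k _ => ?_
        rw [Finset.sum_comm]
        refine Finset.sum_congr rfl fun i _ => Finset.sum_congr rfl fun j _ => ?_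
        ring
    _ = ∑ i, ∑ j, u i * v j ^ 2 * ∑ k, uMat l k i * uMat l k j ^ 2 := by
        simp only [Finset.mul_sum]
        rw [Finset.sum_comm]
        exact Finset.sum_congr rfl fun i _ => Finset.sum_comm
    _ = Cfsg.hermForm 6 F4 2 u v := by
        simp only [uMat_unitary, mul_ite, mul_one, mul_zero, Finset.sum_ite_eq, Finset.mem_univ, if_true,
          Cfsg.hermForm]

/-- A generator of the unitary group. -/
def uGen (l : Fin 3) : Cfsg.SU 6 F4 2 := ⟨⟨uMat l, uMat_det l⟩, uMat_mem l⟩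

/-- A code of a coordinate of a point. -/
def lineC (j : Fin 693) (i : ℕ) : ℕ := getU ptCodes 2 (6 * j.val + i)

/-- The isotropic vector of a point. -/
def line (j : Fin 693) : Fin 6 → F4 := fun i => dec (lineC j i.val)

/-- The permutation of the points. -/
def pperm (l : Fin 3) (j : Fin 693) : Fin 693 := Fin.ofNat 693 (getU (ptPerms.getD l.val 0) 10 j.val)

/-- The code of a scalar. -/
def scalC (l : Fin 3) (j : Fin 693) : ℕ := getU (ptScal.getD l.val 0) 2 j.val

/-- The scalar at a point. -/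
def scal (l : Fin 3) (j : Fin 693) : F4 := dec (scalC l j)

theorem lineC_lt (j : Fin 693) (i : ℕ) : lineC j i < 4 := getU_lt _ 2 _

theorem scalC_ne : ∀ l : Fin 3, ∀ j : Fin 693, scalC l j ≠ 0 := by decide +kernel

theorem scal_ne (l : Fin 3) (j : Fin 693) : scal l j ≠ 0 := fun h =>
  scalC_ne l j (dec_inj (getU_lt _ 2 _) (by norm_num) h)

theorem actC : ∀ l : Fin 3, ∀ j : Fin 693, ∀ i : Fin 6,
    dot6 (fun k => uC l i.val k) (fun k => lineC j k) = fmul (scalC l j) (lineC (pperm l j) i.val) := by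
  decide +kernel

theorem uGen_line (l : Fin 3) (j : Fin 693) :
    suMat (uGen l) *ᵥ line j = scal l j • line (pperm l j) := by
  funext i
  have h := congrArg dec (actC l j i)
  rw [(dec_dot6 (uC_lt l _) (lineC_lt j)).2, dec_mul (show scalC l j < 4 from getU_lt _ 2 _) (lineC_lt _ _)] at h
  exact h

/-- The code of a multiple of a point. -/
def multCode (c : ℕ) (j : Fin 693) : ℕ :=
  fmul c (lineC j 0) + 4 * fmul c (lineC j 1) + 16 * fmul c (lineC j 2) + 64 * fmul c (lineC j 3) +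
    256 * fmul c (lineC j 4) + 1024 * fmul c (lineC j 5)

theorem index_ok : ∀ j : Fin 693, ∀ c : Fin 4, c ≠ 0 → getU ptIndex 10 (multCode c.val j) = j.val := by
  decide +kernel

theorem line_ne : ∀ j : Fin 693, ∃ i : Fin 6, lineC j i.val ≠ 0 := by decide +kernel

attribute [local irreducible] getU fmul

theorem line_smul_inj {a b : Fin 693} {c : F4} (h : line a = c • line b) : a = b := by
  obtain ⟨k, hk⟩ := dec_onto c
  have hk0 : k ≠ 0 := by
    rintro rfl
    obtain ⟨i, hi⟩ := line_ne a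
    refine hi (dec_inj (lineC_lt _ _) (by norm_num) ?_)
    have h1 : dec (lineC a i.val) = c * dec (lineC b i.val) := congrFun h i
    rw [h1, ← hk]
    exact zero_mul _
  have e : ∀ i : Fin 6, fmul 1 (lineC a i.val) = fmul k.val (lineC b i.val) := fun i =>
    dec_inj (fmul_lt (by norm_num) (lineC_lt _ _)) (fmul_lt k.isLt (lineC_lt _ _)) (by
      rw [dec_mul (by norm_num) (lineC_lt _ _), dec_mul k.isLt (lineC_lt _ _), hk]
      exact (one_mul _).trans (congrFun h i))
  have hm : multCode (1 : Fin 4).val a = multCode k.val b := by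
    show multCode 1 a = _
    unfold multCode
    rw [show fmul 1 (lineC a 0) = fmul k.val (lineC b 0) from e 0,
      show fmul 1 (lineC a 1) = fmul k.val (lineC b 1) from e 1,
      show fmul 1 (lineC a 2) = fmul k.val (lineC b 2) from e 2,
      show fmul 1 (lineC a 3) = fmul k.val (lineC b 3) from e 3,
      show fmul 1 (lineC a 4) = fmul k.val (lineC b 4) from e 4,
      show fmul 1 (lineC a 5) = fmul k.val (lineC b 5) from e 5]
  exact Fin.ext ((index_ok a 1 one_ne_zero).symm.trans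
    ((congrArg (getU ptIndex 10) hm).trans (index_ok b k hk0)))

theorem two_lin {X Y s t : F4} (hst : s ≠ t) (h1 : X + s * Y = 0) (h2 : X + t * Y = 0) : X = 0 ∧ Y = 0 := by
  have hY : Y = 0 := (mul_eq_zero.mp (show (s - t) * Y = 0 by linear_combination h1 - h2)).resolve_left
    (sub_ne_zero.mpr hst)
  exact ⟨by rw [hY] at h1; linear_combination h1, hY⟩

/-- The points on the nine coordinate lines used below. -/
def pairPts : List (Fin 6 × Fin 6 × Fin 693 × Fin 693) :=
  [(0, 1, 5, 21), (0, 2, 440, 490), (0, 3, 273, 223), (0, 4, 507, 343), (0, 5, 206, 371), (1, 2, 226, 71),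
    (1, 3, 487, 636), (1, 4, 367, 462), (1, 5, 347, 249)]

/-- Whether a point lies on a coordinate line with given ratio. -/
def onPair (a b : Fin 6) (j : Fin 693) (t : ℕ) : Bool :=
  (List.finRange 6).all fun i => Nat.beq (lineC j i.val) (if i = a then 1 else if i = b then t else 0)

theorem pairs_onPair : pairPts.all (fun q => !(q.1 == q.2.1) && onPair q.1 q.2.1 q.2.2.1 1 &&
    onPair q.1 q.2.1 q.2.2.2 2) = true := by decide +kernel

theorem of_onPair {a b : Fin 6} {j : Fin 693} {t : ℕ} (h : onPair a b j t = true) (i : Fin 6) :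
    lineC j i.val = if i = a then 1 else if i = b then t else 0 :=
  Nat.eq_of_beq_eq_true (List.all_eq_true.mp h i (List.mem_finRange i))

theorem pair_ok (q : Fin 6 × Fin 6 × Fin 693 × Fin 693) (hq : q ∈ pairPts) : q.1 ≠ q.2.1 ∧ ∀ i : Fin 6,
    lineC q.2.2.1 i.val = (if i = q.1 then 1 else if i = q.2.1 then 1 else 0) ∧
    lineC q.2.2.2 i.val = (if i = q.1 then 1 else if i = q.2.1 then 2 else 0) := by
  have h := List.all_eq_true.mp pairs_onPair q hq
  simp only [Bool.and_eq_true, Bool.not_eq_true', beq_eq_false_iff_ne, ne_eq] at h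
  exact ⟨h.1.1, fun i => ⟨of_onPair h.1.2 i, of_onPair h.2 i⟩⟩

/-- A matrix fixing all the lines is scalar. -/
theorem scalar_of_fix {M : Matrix (Fin 6) (Fin 6) F4} (h : ∀ j, ∃ c : F4, M *ᵥ line j = c • line j) :
    M = M 0 0 • (1 : Matrix (Fin 6) (Fin 6) F4) := by
  have row : ∀ (j : Fin 693) (a b : Fin 6) (t : ℕ), a ≠ b →
      (∀ i : Fin 6, lineC j i.val = if i = a then 1 else if i = b then t else 0) →
      (∀ k, k ≠ a → k ≠ b → M k a + dec t * M k b = 0) ∧
        M b a + dec t * M b b = (M a a + dec t * M a b) * dec t := by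
    intro j a b t hab hj
    obtain ⟨c, hc⟩ := h j
    have hmv : ∀ k, (M *ᵥ line j) k = M k a + dec t * M k b := by
      intro k
      rw [Matrix.mulVec, dotProduct, Finset.sum_eq_add (a := a) (b := b) hab
        (fun i _ hi => by simp [line, hj i, hi.1, hi.2, dec]; exact Or.inr rfl) (by simp) (by simp)]
      simp only [line, hj, if_true, if_neg hab.symm]
      rw [show dec 1 = 1 from rfl]; ring
    have ev : ∀ k, M k a + dec t * M k b = c * line j k := fun k => (hmv k).symm.trans (congrFun hc k)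
    refine ⟨fun k hka hkb => ?_, ?_⟩
    · rw [ev k, line, hj k, if_neg hka, if_neg hkb]
      exact mul_zero c
    · have ha : M a a + dec t * M a b = c := by
        rw [ev a, line, hj a, if_pos rfl]
        exact mul_one c
      rw [ev b, line, hj b, if_neg hab.symm, if_pos rfl, ha]
  have pr : ∀ q ∈ pairPts, (∀ k, k ≠ q.1 → k ≠ q.2.1 → M k q.1 = 0 ∧ M k q.2.1 = 0) ∧
      M q.2.1 q.1 + dec 1 * M q.2.1 q.2.1 = (M q.1 q.1 + dec 1 * M q.1 q.2.1) * dec 1 := by
    intro q hq
    obtain ⟨hne, hl⟩ := pair_ok q hq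
    obtain ⟨r1, e1⟩ := row _ _ _ 1 hne fun i => (hl i).1
    obtain ⟨r2, -⟩ := row _ _ _ 2 hne fun i => (hl i).2
    exact ⟨fun k ha hb => two_lin (show dec 1 ≠ dec 2 by decide +kernel) (r1 k ha hb) (r2 k ha hb), e1⟩
  have hoff : ∀ k i : Fin 6, k ≠ i → M k i = 0 := by
    intro k i hki
    have key : ∀ a b : Fin 6, ∀ j j', (a, b, j, j') ∈ pairPts → k ≠ a → k ≠ b → (i = a ∨ i = b) → M k i = 0 := by
      intro a b j j' hm ha hb hi
      rcases hi with rfl | rfl
      · exact ((pr _ hm).1 k ha hb).1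
      · exact ((pr _ hm).1 k ha hb).2
    have cases : ∀ k i : Fin 6, k ≠ i → ∃ q ∈ pairPts, k ≠ q.1 ∧ k ≠ q.2.1 ∧ (i = q.1 ∨ i = q.2.1) := by
      decide +kernel
    obtain ⟨⟨a, b, j, j'⟩, hm, ha, hb, hi⟩ := cases k i hki
    exact key a b j j' hm ha hb hi
  have hdiag : ∀ q ∈ pairPts, M q.2.1 q.2.1 = M q.1 q.1 := by
    intro q hq
    have e := (pr q hq).2
    rw [hoff _ _ (pair_ok q hq).1.symm, hoff _ _ (pair_ok q hq).1, show dec 1 = 1 from rfl] at e
    linear_combination e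
  refine Matrix.ext fun k i => ?_
  rcases eq_or_ne k i with rfl | hki
  · rw [Matrix.smul_apply, Matrix.one_apply_eq, smul_eq_mul, mul_one]
    fin_cases k
    · rfl
    · exact hdiag (0, 1, 5, 21) (by decide)
    · exact hdiag (0, 2, 440, 490) (by decide)
    · exact hdiag (0, 3, 273, 223) (by decide)
    · exact hdiag (0, 4, 507, 343) (by decide)
    · exact hdiag (0, 5, 206, 371) (by decide)
  · rw [hoff k i hki, Matrix.smul_apply, Matrix.one_apply_ne hki, smul_zero]

end Cfsg.Agent.CoU62
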