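import Cfsg.Agent.CoU62.Lattice
import Cfsg.Agent.CoU62.Unitary
import Cfsg.Agent.U33Degrees.Transfer

/-!
# The stabiliser of two shortest vectors at inner product `-16`
-/

set_option autoImplicit false
set_option maxRecDepth 100000
set_option linter.style.haveILetI false

namespace Cfsg.Agent.CoU62

open Cfsg CfsgLib CfsgLib.Golay CfsgLib.Unitary MulAction Matrix
open CfsgLib.Coset.G24 (F4)

attribute [local irreducible] CfsgLib.Leech.shortVecs CfsgLib.Leech.halfTable CfsgLib.Leech.quarterTable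

/-- A point of a plane. -/
def planePt (i : Fin 891) (m : ℕ) : Fin 693 := Fin.ofNat 693 (getU planePts 10 (21 * i.val + m))

/-- The points of a plane as bits. -/
def maskUpto (i : Fin 891) : ℕ → ℕ
  | 0 => 0
  | n + 1 => maskUpto i n ||| 2 ^ (planePt i n).val

/-- The points of a plane as bits. -/
def mask (i : Fin 891) : ℕ := maskUpto i 21

theorem testBit_maskUpto (i : Fin 891) (q : ℕ) : ∀ n,
    (maskUpto i n).testBit q = true ↔ ∃ m < n, (planePt i m).val = q
  | 0 => by simp [maskUpto]
  | n + 1 => by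
    rw [maskUpto, Nat.testBit_or, Bool.or_eq_true, testBit_maskUpto i q n, Nat.exists_lt_succ_right,
      Nat.testBit_two_pow]
    simp

/-- The first of two planes through a point. -/
def planeA (j : Fin 693) : Fin 891 := Fin.ofNat 891 (getU twoPlanes 10 (2 * j.val))

/-- The second of two planes through a point. -/
def planeB (j : Fin 693) : Fin 891 := Fin.ofNat 891 (getU twoPlanes 10 (2 * j.val + 1))

theorem two_ok : ∀ j : Fin 693, Nat.land (mask (planeA j)) (mask (planeB j)) = 2 ^ j.val := by decide +kernel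

theorem incid_all : (List.finRange 3).all (fun l => (List.finRange 891).all fun i => (List.range 21).all fun m =>
    (mask (vperm l i)).testBit (pperm l (planePt i m)).val) = true := by decide +kernel

theorem incid_gen {l : Fin 3} {i : Fin 891} {j : Fin 693} (h : (mask i).testBit j.val = true) :
    (mask (vperm l i)).testBit (pperm l j).val = true := by
  obtain ⟨m, hm, hj⟩ := (testBit_maskUpto i j.val 21).mp h
  obtain rfl : planePt i m = j := Fin.ext hj
  exact List.all_eq_true.mp (List.all_eq_true.mp (List.all_eq_true.mp incid_all l (List.mem_finRange l))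
    i (List.mem_finRange i)) m (List.mem_range.mpr hm)

/-- A key of a vector of the suborbit. -/
def subKey (i : Fin 891) : ℕ := (subL i).foldl (fun a x => 16 * a + (x + 8).toNat) 0

theorem subKey_lt : ∀ i : Fin 890, subKey i.castSucc < subKey i.succ := by decide +kernel

theorem sub_injective : Function.Injective sub := by
  intro a b h
  have h' : subL a = subL b := by
    rw [← toL_ofL (len_subL a), ← toL_ofL (len_subL b)]
    exact congrArg (fun v : leechLattice => McLSimple.toL (v : GolayPt → ℤ)) h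
  exact ((Fin.strictMono_iff_lt_succ (f := subKey)).mpr subKey_lt).injective (congrArg _ h' :)

local notation "SU6" => Cfsg.SU 6 F4 2

theorem hF4 : Nat.card F4 = 2 ^ 2 := by rw [Nat.card_eq_fintype_card, CfsgLib.Coset.G24.F4.card_eq]; rfl

theorem card_psu : Nat.card (Cfsg.PSU 6 F4 2) = 9196830720 := by
  have h := card_PSU_mul (F := F4) hF4 (n := 6) (by norm_num)
  rw [card_GU hF4] at h
  have e : 2 ^ (6 * (6 - 1) / 2) * ∏ i ∈ Finset.range 6,
      (if Even i then 2 ^ (i + 1) + 1 else 2 ^ (i + 1) - 1) = 9 * 9196830720 := by decide +kernel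
  rw [e, show Nat.gcd 6 (2 + 1) = 3 by decide] at h
  omega

/-- Compatible pairs. -/
def Compat (x : Co0 × SU6) : Prop :=
  x.1 ∈ S0 ∧ ∀ j : Fin 693, ∃ (q : Fin 693) (c : F4), c ≠ 0 ∧ suMat x.2 *ᵥ line j = c • line q ∧
    ∀ i, (mask i).testBit j.val = true → ∃ i', x.1 • sub i = sub i' ∧ (mask i').testBit q.val = true

theorem Compat.mul' {x y : Co0 × SU6} (hx : Compat x) (hy : Compat y) : Compat (x * y) := by
  refine ⟨mul_mem hx.1 hy.1, fun j => ?_⟩
  obtain ⟨a, c, hc, hv, hp⟩ := hy.2 j
  obtain ⟨b, d, hd, hv', hp'⟩ := hx.2 a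
  refine ⟨b, c * d, mul_ne_zero hc hd, ?_, fun i hi => ?_⟩
  · rw [Prod.snd_mul, suMat_mul, ← Matrix.mulVec_mulVec, hv, Matrix.mulVec_smul, hv', smul_smul]
  · obtain ⟨i', e, hi'⟩ := hp i hi
    obtain ⟨i'', e', hi''⟩ := hp' i' hi'
    exact ⟨i'', by rw [Prod.fst_mul, mul_smul, e, e'], hi''⟩

theorem compat_one : Compat (1 : Co0 × SU6) :=
  ⟨one_mem _, fun j => ⟨j, 1, one_ne_zero, by simp [suMat_one], fun i hi => ⟨i, one_smul _ _, hi⟩⟩⟩

theorem compat_gen (l : Fin 3) : Compat (gen l, uGen l) :=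
  ⟨gen_mem l, fun j => ⟨pperm l j, scal l j, scal_ne l j, uGen_line l j,
    fun i hi => ⟨vperm l i, gen_sub l i, incid_gen hi⟩⟩⟩

/-- Follow a word. -/
def follow : List ℕ → Fin 693 → Fin 693
  | [], j => j
  | k :: w, j => pperm (Fin.ofNat 3 k) (follow w j)

/-- Unpack a word. -/
def unpack : ℕ → ℕ → List ℕ
  | 0, _ => []
  | n + 1, w => if w = 0 then [] else (Nat.land w 3 - 1) :: unpack n (Nat.shiftRight w 2)

/-- The levels of the chain. -/
def levels : List (Fin 693 × List (List ℕ)) :=
  (chainBases.zip chainWords).map fun p => (Fin.ofNat 693 p.1, p.2.map (unpack 128))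

/-- Increasing lists. -/
def increasing : List ℕ → Bool
  | [] => true
  | [_] => true
  | a :: b :: l => decide (a < b) && increasing (b :: l)

theorem pairwise_of_increasing : ∀ {l : List ℕ}, increasing l = true → l.Pairwise (· < ·)
  | [], _ => List.Pairwise.nil
  | [a], _ => List.pairwise_singleton _ a
  | a :: b :: l, h => by
    simp only [increasing, Bool.and_eq_true, decide_eq_true_eq] at h
    have ih := pairwise_of_increasing h.2
    refine List.pairwise_cons.mpr ⟨fun c hc => ?_, ih⟩
    rcases List.mem_cons.mp hc with rfl | hc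
    · exact h.1
    · exact h.1.trans ((List.pairwise_cons.mp ih).1 c hc)

/-- The checks on a chain. -/
def chainOk : List (Fin 693 × List (List ℕ)) → Bool
  | [] => true
  | (b, ws) :: L => increasing (ws.map fun w => (follow w b).val) &&
      (L.all fun lv => lv.2.all fun w => follow w b == b) && chainOk L

/-- The number of products. -/
def chainSize : List (Fin 693 × List (List ℕ)) → ℕ
  | [] => 1
  | (_, ws) :: L => ws.length * chainSize L

theorem levels_ok : chainOk levels = true ∧ chainSize levels = 9196830720 := by decide +kernel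

/-- Lines are mapped by a word. -/
def Follows (s : SU6) (w : List ℕ) : Prop :=
  ∀ j, ∃ c : F4, c ≠ 0 ∧ suMat s *ᵥ line j = c • line (follow w j)

theorem huniq {s t : SU6} {j a b : Fin 693} {c d : F4}
    (hst : QuotientGroup.mk' (Subgroup.center SU6) s = QuotientGroup.mk' (Subgroup.center SU6) t) (hd : d ≠ 0)
    (h1 : suMat s *ᵥ line j = c • line a) (h2 : suMat t *ᵥ line j = d • line b) : b = a := by
  obtain ⟨z, hz⟩ := (mem_center_SU_iff hF4 (by norm_num)).mp (QuotientGroup.eq.mp hst)
  have ht : suMat t *ᵥ line j = (z * c) • line a := by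
    have e : suMat t = suMat s * suMat (s⁻¹ * t) := by rw [← suMat_mul, mul_inv_cancel_left]
    rw [e, show suMat (s⁻¹ * t) = z • 1 from hz, Matrix.mul_smul, mul_one, Matrix.smul_mulVec, h1, smul_smul]
  refine line_smul_inj (c := d⁻¹ * (z * c)) ?_
  rw [← smul_smul, ← ht, h2, smul_smul, inv_mul_cancel₀ hd, one_smul]

theorem exists_products (M : Subgroup (Cfsg.PSU 6 F4 2))
    (hM : ∀ w : List ℕ, ∃ s : SU6, QuotientGroup.mk' (Subgroup.center SU6) s ∈ M ∧ Follows s w) :
    ∀ L : List (Fin 693 × List (List ℕ)), chainOk L = true →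
      ∃ T : Finset (Cfsg.PSU 6 F4 2), T.card = chainSize L ∧ (∀ t ∈ T, t ∈ M) ∧
        ∀ t ∈ T, ∀ b : Fin 693, (L.all fun lv => lv.2.all fun w => follow w b == b) = true →
          ∃ s : SU6, QuotientGroup.mk' (Subgroup.center SU6) s = t ∧
            ∃ c : F4, c ≠ 0 ∧ suMat s *ᵥ line b = c • line b
  | [], _ => ⟨{1}, Finset.card_singleton _, fun t ht => by rw [Finset.mem_singleton.mp ht]; exact one_mem _,
      fun t ht b _ => ⟨1, by rw [Finset.mem_singleton.mp ht, map_one], 1, one_ne_zero, by simp [suMat_one]⟩⟩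
  | (b, ws) :: L, h => by
    classical
    simp only [chainOk, Bool.and_eq_true] at h
    obtain ⟨⟨hinc, hfix⟩, hL⟩ := h
    obtain ⟨T, hT, hTM, hTfix⟩ := exists_products M hM L hL
    choose s hsM hsl using fun i : Fin ws.length => hM ws[i.val]
    refine ⟨((Finset.univ : Finset (Fin ws.length)) ×ˢ T).image
      (fun p => QuotientGroup.mk' (Subgroup.center SU6) (s p.1) * p.2), ?_, ?_, ?_⟩
    · rw [Finset.card_image_of_injOn ?_, Finset.card_product, Finset.card_univ, Fintype.card_fin, hT]
      · rfl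
      · rintro ⟨i, t⟩ hit ⟨i', t'⟩ hit' he
        simp only [Finset.coe_product, Set.mem_prod, Finset.mem_coe] at hit hit'
        obtain ⟨r, hr, c, hc, e1⟩ := hTfix t hit.2 b hfix
        obtain ⟨r', hr', c', hc', e2⟩ := hTfix t' hit'.2 b hfix
        obtain ⟨d, -, d1⟩ := hsl i b
        obtain ⟨d', hd', d2⟩ := hsl i' b
        have hst : QuotientGroup.mk' (Subgroup.center SU6) (s i * r) =
            QuotientGroup.mk' (Subgroup.center SU6) (s i' * r') := by rw [map_mul, map_mul, hr, hr']; exact he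
        have hf := huniq hst (mul_ne_zero hc' hd')
          (show suMat (s i * r) *ᵥ line b = (c * d) • line (follow ws[i.val] b) by
            rw [suMat_mul, ← Matrix.mulVec_mulVec, e1, Matrix.mulVec_smul, d1, smul_smul])
          (show suMat (s i' * r') *ᵥ line b = (c' * d') • line (follow ws[i'.val] b) by
            rw [suMat_mul, ← Matrix.mulVec_mulVec, e2, Matrix.mulVec_smul, d2, smul_smul])
        have hii : i' = i := by
          have hnd := (pairwise_of_increasing hinc).imp (fun {a c} hac => ne_of_lt hac)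
          refine Fin.ext ((List.Nodup.getElem_inj_iff hnd (hi := by simp) (hj := by simp)).mp ?_)
          simp only [List.getElem_map]
          exact congrArg Fin.val hf
        subst hii
        rw [Prod.mk.injEq]
        exact ⟨rfl, mul_left_cancel he⟩
    · intro t ht
      obtain ⟨⟨i, t'⟩, hit, rfl⟩ := Finset.mem_image.mp ht
      exact mul_mem (hsM i) (hTM t' (Finset.mem_product.mp hit).2)
    · intro t ht b' hb'
      obtain ⟨⟨i, t'⟩, hit, rfl⟩ := Finset.mem_image.mp ht
      simp only [List.all_cons, Bool.and_eq_true] at hb'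
      obtain ⟨r, hr, c, hc, e1⟩ := hTfix t' (Finset.mem_product.mp hit).2 b' hb'.2
      obtain ⟨d, hd, d1⟩ := hsl i b'
      have hfb : follow ws[i.val] b' = b' :=
        beq_iff_eq.mp (List.all_eq_true.mp hb'.1 _ (List.getElem_mem i.isLt))
      refine ⟨s i * r, by rw [map_mul, hr], c * d, mul_ne_zero hc hd, ?_⟩
      rw [suMat_mul, ← Matrix.mulVec_mulVec, e1, Matrix.mulVec_smul, d1, smul_smul, hfb]

theorem nonempty_equiv : Nonempty (S0 ≃* Cfsg.PSU 6 F4 2) := by
  classical
  set gx : Fin 3 → Co0 × SU6 := fun l => (gen l, uGen l) with hgx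
  set Γ : Subgroup (Co0 × SU6) := Subgroup.closure (Set.range gx) with hΓ
  have hcompat : ∀ x ∈ Γ, Compat x := by
    intro x hx
    have h : x ∈ Submonoid.closure (Set.range gx) := by
      rw [← Subgroup.closure_toSubmonoid_of_finite]; exact hx
    induction h using Submonoid.closure_induction with
    | mem y hy => obtain ⟨l, rfl⟩ := hy; exact compat_gen l
    | one => exact compat_one
    | mul a b ha hb iha ihb =>
      exact (iha (Subgroup.le_closure_toSubmonoid _ ha)).mul' (ihb (Subgroup.le_closure_toSubmonoid _ hb))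
  set K : Subgroup Co0 := Γ.map (MonoidHom.fst Co0 SU6) with hK
  set H : Subgroup SU6 := Γ.map (MonoidHom.snd Co0 SU6) with hH
  have hKle : K ≤ S0 := by
    rintro _ ⟨x, hx, rfl⟩
    exact (hcompat x hx).1
  let π : SU6 →* Cfsg.PSU 6 F4 2 := QuotientGroup.mk' (Subgroup.center SU6)
  have hwell : ∀ s : SU6, ((1 : Co0), s) ∈ Γ → π s = 1 := by
    intro s hs
    refine (QuotientGroup.eq_one_iff _).mpr
      ((mem_center_SU_iff hF4 (by norm_num)).mpr ⟨_, scalar_of_fix fun j => ?_⟩)
    obtain ⟨q, c, -, hv, hp⟩ := (hcompat _ hs).2 j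
    have hbit : (Nat.land (mask (planeA j)) (mask (planeB j))).testBit j.val = true := by
      rw [two_ok, Nat.testBit_two_pow]; simp
    change (mask (planeA j) &&& mask (planeB j)).testBit j.val = true at hbit
    rw [Nat.testBit_and, Bool.and_eq_true] at hbit
    have hq : ∀ i, (mask i).testBit j.val = true → (mask i).testBit q.val = true := fun i hi => by
      obtain ⟨i', e, hi'⟩ := hp i hi
      rw [one_smul] at e
      rw [sub_injective e]; exact hi'
    have h2 : (mask (planeA j) &&& mask (planeB j)).testBit q.val = true := by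
      rw [Nat.testBit_and, hq _ hbit.1, hq _ hbit.2]; rfl
    change (Nat.land (mask (planeA j)) (mask (planeB j))).testBit q.val = true at h2
    rw [two_ok, Nat.testBit_two_pow, decide_eq_true_eq] at h2
    exact ⟨c, by rw [hv, Fin.ext h2]⟩
  have hex : ∀ k : K, ∃ s : SU6, ((k : Co0), s) ∈ Γ := by
    rintro ⟨_, ⟨a, b⟩, hab, rfl⟩
    exact ⟨b, hab⟩
  choose sf hsf using hex
  have hθ : ∀ (k : K) (s : SU6), ((k : Co0), s) ∈ Γ → π (sf k) = π s := by
    intro k s hs
    have := hwell _ (by
      have := mul_mem (inv_mem (hsf k)) hs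
      rwa [Prod.inv_mk, Prod.mk_mul_mk, inv_mul_cancel] at this : ((1 : Co0), (sf k)⁻¹ * s) ∈ Γ)
    rwa [map_mul, map_inv, inv_mul_eq_one] at this
  let θ : K →* Cfsg.PSU 6 F4 2 := MonoidHom.mk' (fun k => π (sf k)) (fun a b => by
    rw [← map_mul]
    exact hθ (a * b) _ (by
      have := mul_mem (hsf a) (hsf b)
      rwa [Prod.mk_mul_mk] at this))
  have hword : ∀ w : List ℕ, ∃ h ∈ H, Follows h w := by
    intro w
    induction w with
    | nil => exact ⟨1, one_mem _, fun j => ⟨1, one_ne_zero, by simp [follow, suMat_one]⟩⟩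
    | cons k w ih =>
      obtain ⟨h, hh, hhl⟩ := ih
      refine ⟨(gx (Fin.ofNat 3 k)).2 * h, mul_mem ⟨gx _, Subgroup.subset_closure ⟨_, rfl⟩, rfl⟩ hh, fun j => ?_⟩
      obtain ⟨c, hc, hcl⟩ := hhl j
      exact ⟨c * scal (Fin.ofNat 3 k) (follow w j), mul_ne_zero hc (scal_ne _ _), by
        rw [suMat_mul, ← Matrix.mulVec_mulVec, hcl, Matrix.mulVec_smul]
        show c • (suMat (uGen _) *ᵥ _) = _
        rw [uGen_line, smul_smul]
        rfl⟩
  obtain ⟨T, hT, hTM, -⟩ := exists_products (H.map π)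
    (fun w => let ⟨h, hh, hf⟩ := hword w; ⟨h, Subgroup.mem_map_of_mem π hh, hf⟩) levels levels_ok.1
  haveI : Finite (Cfsg.PSU 6 F4 2) := Nat.finite_of_card_ne_zero (by rw [card_psu]; norm_num)
  have htop : H.map π = ⊤ := by
    refine Subgroup.eq_top_of_le_card _ ?_
    rw [card_psu, ← levels_ok.2, ← hT, ← Nat.card_eq_finsetCard]
    exact Nat.card_le_card_of_injective (fun t => (⟨t.1, hTM t.1 t.2⟩ : H.map π))
      fun a b hab => Subtype.ext (congrArg (fun x : H.map π => (x : Cfsg.PSU 6 F4 2)) hab)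
  have hsurj : Function.Surjective θ := by
    intro t
    obtain ⟨_, ⟨⟨k, s⟩, hks, rfl⟩, rfl⟩ : t ∈ H.map π := htop ▸ Subgroup.mem_top t
    exact ⟨⟨k, ⟨(k, s), hks, rfl⟩⟩, hθ ⟨k, _⟩ s hks⟩
  have hge : Nat.card S0 ≤ Nat.card K := by
    rw [card_S0, ← card_psu]
    exact Nat.card_le_card_of_surjective θ hsurj
  have hKeq : K = S0 := Subgroup.eq_of_le_of_card_ge hKle hge
  have hbij : Function.Bijective θ := (Nat.bijective_iff_surjective_and_card θ).mpr ⟨hsurj, by
    rw [card_psu, ← card_S0, hKeq]⟩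
  exact ⟨(MulEquiv.subgroupCongr hKeq.symm).trans (MulEquiv.ofBijective θ hbij)⟩

/-- The stabiliser for any configuration. -/
theorem main {v w : leechLattice} (hv : sqNorm (v : GolayPt → ℤ) = 32) (hw : sqNorm (w : GolayPt → ℤ) = 32)
    (hd : dotInt (v : GolayPt → ℤ) (w : GolayPt → ℤ) = -16) (F : Type) [Field F] [Fintype F]
    (hF : Fintype.card F = 4) :
    Nonempty (↥(stabilizer Co0 v ⊓ stabilizer Co0 w) ≃* Cfsg.PSU 6 F 2) := by
  obtain ⟨g, hg⟩ := Leech.min_orbit hv
  have hn : sqNorm ((g • w : leechLattice) : GolayPt → ℤ) = 32 := by rw [Leech.sqNorm_smul]; exact hw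
  have hdot : dotInt (Spor.leechU : GolayPt → ℤ) ((g • w : leechLattice) : GolayPt → ℤ) = -16 := by
    rw [← hg, Leech.dot_smul']; exact hd
  obtain ⟨h, hU, hb⟩ := Leech.orbit_sixteen hn second_dot.1 hdot second_dot.2
  set t : Co0 := h * g with ht
  have htv : t • v = Spor.leechU := by rw [ht, mul_smul, hg, hU]
  have htw : t • w = second := by rw [ht, mul_smul, hb]
  obtain ⟨E⟩ := nonempty_equiv
  have hconj : ∀ k : Co0, k ∈ stabilizer Co0 v ⊓ stabilizer Co0 w ↔ t * k * t⁻¹ ∈ S0 := by
    intro k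
    show k ∈ stabilizer Co0 v ∧ k ∈ stabilizer Co0 w ↔
      t * k * t⁻¹ ∈ stabilizer Co0 Spor.leechU ∧ t * k * t⁻¹ ∈ stabilizer Co0 second
    simp only [mem_stabilizer_iff, ← htv, ← htw, mul_smul, inv_smul_smul, smul_left_cancel_iff]
  exact ⟨(({
    toFun := fun k => ⟨t * k * t⁻¹, (hconj k).mp k.2⟩
    invFun := fun k => ⟨t⁻¹ * k * t, (hconj _).mpr (by simp [mul_assoc])⟩
    left_inv := fun k => Subtype.ext (by simp [mul_assoc])
    right_inv := fun k => Subtype.ext (by simp [mul_assoc])
    map_mul' := fun a b => Subtype.ext (by simp [mul_assoc]) } :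
    ↥(stabilizer Co0 v ⊓ stabilizer Co0 w) ≃* S0).trans E).trans
    (CfsgLib.U33Deg.psuCongr (FiniteField.ringEquivOfCardEq (K := F4) (K' := F)
      (by rw [CfsgLib.Coset.G24.F4.card_eq, hF])))⟩

end Cfsg.Agent.CoU62
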